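import Mathlib

set_option autoImplicit false
universe u

namespace Groth.Agent.ExpPolyLib
open Polynomial

variable {B : Type u} [CommRing B]

theorem eq_iff_rec (G : B[X]) (c μ : B) :
    G * C c = derivative G * (1 + C μ * X) ↔ ∀ r, ((r + 1 : ℕ) : B) * G.coeff (r + 1) = (c - (r : B) * μ) * G.coeff r := by
  rw [Polynomial.ext_iff]
  refine forall_congr' fun r => ?_
  rw [coeff_mul_C, mul_add, mul_one, coeff_add, coeff_derivative,
    show derivative G * (C μ * X) = C μ * (derivative G * X) by ring, coeff_C_mul]
  rcases r with _ | r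
  · simp only [mul_coeff_zero, coeff_X_zero, mul_zero, add_zero]
    push_cast
    constructor <;> intro h <;> linear_combination -h
  · rw [coeff_mul_X, coeff_derivative]
    push_cast
    constructor <;> intro h <;> linear_combination -h

/-- A solution of the recurrence with zero constant term and small degree vanishes. -/
theorem eq_zero_of_rec {p : ℕ} (hu : ∀ r, 0 < r → r < p → IsUnit (r : B)) (G : B[X]) (c μ : B)
    (hdeg : G.natDegree < p) (h0 : G.coeff 0 = 0) (h : G * C c = derivative G * (1 + C μ * X)) : G = 0 := by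
  rw [eq_iff_rec] at h
  refine Polynomial.ext fun r => ?_
  rw [coeff_zero]
  induction r with
  | zero => exact h0
  | succ r ih =>
    rcases lt_or_ge (r + 1) p with hr | hr
    · have := h r
      rw [ih, mul_zero] at this
      exact (hu (r + 1) r.succ_pos hr).mul_right_eq_zero.1 this
    · exact coeff_eq_zero_of_natDegree_lt (hdeg.trans_le hr)

theorem isUnit_natCast_of_factorial {p : ℕ} (hu : IsUnit ((Nat.factorial (p - 1) : ℕ) : B)) (r : ℕ)
    (h0 : 0 < r) (hr : r < p) : IsUnit (r : B) :=
  isUnit_of_dvd_unit (Nat.cast_dvd_cast (Nat.dvd_factorial h0 (by omega))) hu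

theorem isUnit_factorial {p : ℕ} (hu : IsUnit ((Nat.factorial (p - 1) : ℕ) : B)) (r : ℕ) (hr : r < p) :
    IsUnit ((r.factorial : ℕ) : B) :=
  isUnit_of_dvd_unit (Nat.cast_dvd_cast (Nat.factorial_dvd_factorial (by omega))) hu

end Groth.Agent.ExpPolyLib
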